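/-
Coset enumeration certificate, found by a computer search.
-/
import Cfsg.Agent.Lib.Spor.Suz.Gen.Data

namespace CfsgLib.Spor.Suz.Gen

open CfsgLib.Spor.TC

def rcodes0_0 : List ℕ :=
  [0x2495000010039f3000010037d700001003a170000100378900001]

def rcodes0_ : List ℕ :=
  rcodes0_0

set_option maxRecDepth 100000 in
theorem rows0 : cert.RowsOK 7436 1 0 1 :=
  Cert.RowsOK.of_check _ (codes := rcodes0_) (by decide +kernel)

end CfsgLib.Spor.Suz.Gen
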