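/-
Coset enumeration certificate: the assembled result.
-/
import Cfsg.Agent.Lib.Spor.TC.Steps
import Cfsg.Agent.Lib.Spor.Suz.Rels
import Cfsg.Agent.Lib.Spor.Suz.Gen.Part0
import Cfsg.Agent.Lib.Spor.Suz.Gen.Part1

namespace CfsgLib.Spor.Suz.Gen

open CfsgLib.Spor.TC

theorem steps_ok : cert.StepsOK 0 7436 :=
  ((steps0.append _ steps3562).append _ steps6943)

theorem rows_ok : cert.RowsOK 7436 1 0 1 :=
  rows0

theorem row_zero : cert.rowNode 0 = 0 := by decide +kernel

/-- The certificate, for the relators as powers of words. -/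
noncomputable def cosetCert : CosetCert 5 (relsB ++ [
  ([3, 2, 3, 1, 2, 3, 2, 1, 0, 1, 2, 3, 0, 1, 2, 1, 0, 1, 0], 1)]) [] 1 :=
  ⟨cert, 7436, steps_ok, rows_ok, row_zero, by decide, rfl, by decide +kernel, by decide +kernel⟩

end CfsgLib.Spor.Suz.Gen
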